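import Mathlib
import Cfsg.Agent.Lib.Lie.McLaughlinOut.Defs

/-!
Kernel checks for the outer automorphism group of the McLaughlin group.
-/

set_option autoImplicit false
set_option maxRecDepth 100000
set_option maxHeartbeats 0
set_option Elab.async false

namespace Cfsg.Agent.Lie.McLaughlinOut

open Cfsg.Agent.Lie PermNine

theorem prog_ok : progCheck = true := by decide +kernel

theorem point_ok : (List.range 275).all pointCheck = true := by decide +kernel

theorem step_ok0 : (List.range' 0 301).all stepOK = true := by decide +kernel

theorem step_ok1 : (List.range' 301 301).all stepOK = true := by decide +kernel

theorem step_ok2 : (List.range' 602 301).all stepOK = true := by decide +kernel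

theorem step_ok3 : (List.range' 903 299).all stepOK = true := by decide +kernel

theorem rootsX_ok : rootsOK chainX chainXRoots = true := by decide +kernel

theorem rootsN_ok : rootsOK chainN chainNRoots = true := by decide +kernel

theorem chainX_ok : chainOK chainX [] = true := by decide +kernel

theorem chainN_ok : chainOK chainN [] = true := by decide +kernel

theorem sizes_ok : chainSize chainX = 898128000 ∧ chainSize chainN = 898128000 := by decide +kernel

end Cfsg.Agent.Lie.McLaughlinOut
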