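import Cfsg.Prelude.Def_Spor_Conway
import Cfsg.Agent.Lib.Spor.MclConfig
import Cfsg.Agent.Lib.Spor.GolayPerm
import Cfsg.Agent.Lib.Spor.HigmanSims
import Cfsg.Agent.Lib.Lie.PermNine
import Cfsg.Agent.Lib.Lie.McLaughlinOut.Data

/-!
The action of the McLaughlin group on 275 vectors, three elements with known permutations, and the identification
with the group of the definitions.
-/

set_option autoImplicit false
set_option maxRecDepth 100000
set_option Elab.async false

namespace Cfsg.Agent.Lie.McLaughlinOut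

open Cfsg Cfsg.Agent.Spor Cfsg.Agent.Lie
open scoped Pointwise

local notation "Zv" => GolayPt → ℤ

/-- The group. -/
abbrev MG : Type := ↥(pairStab mclVec)

/-- A vector by number. -/
def vecL (i : ℕ) : List ℤ := vecLits.getD i []

theorem vecLits_eq : vecLits = mclList := by decide +kernel

theorem mclList_len : mclList.length = 275 := mcl_data.2.1

theorem vecL_mem {i : ℕ} (hi : i < 275) : vecL i ∈ mclList := by
  rw [vecL, vecLits_eq, List.getD_eq_getElem _ _ (mclList_len ▸ hi)]
  exact List.getElem_mem _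

theorem row_vecL {i : ℕ} (hi : i < 275) : rowOf (vecOf (vecL i)) = vecL i := by
  have hl := (List.mem_filter.1 (vecL_mem hi)).1
  simp only [mclCands, List.mem_append, List.mem_map] at hl
  rcases hl with ((⟨j, -, e⟩ | ⟨m, -, e⟩) | ⟨m, -, e⟩) | ⟨j, -, e⟩ <;> rw [← e, vecOf_rowOf]

theorem vec_mem (i : Fin 275) : vecOf (vecL i) ∈ mcl275 :=
  mcl275_iff.2 (by rw [row_vecL i.2]; exact vecL_mem i.2)

/-- A vector of the configuration in the lattice. -/
def vecPt (i : Fin 275) : ↥leechLattice := ⟨vecOf (vecL i), (vec_mem i).1.1⟩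

theorem vecPt_injective : Function.Injective vecPt := fun i j h => by
  have h' : vecOf (vecL i) = vecOf (vecL j) := congrArg Subtype.val h
  have h2 : vecL i = vecL j := by rw [← row_vecL i.2, h', row_vecL j.2]
  rw [vecL, vecL, vecLits_eq, List.getD_eq_getElem _ _ (show (i : ℕ) < mclList.length by rw [mclList_len]; exact i.2),
    List.getD_eq_getElem _ _ (show (j : ℕ) < mclList.length by rw [mclList_len]; exact j.2)] at h2
  exact Fin.ext ((mcl_data.1.getElem_inj_iff).1 h2)

theorem image_exists (g : MG) (i : Fin 275) : ∃ j : Fin 275, g.1 • vecPt i = vecPt j := by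
  have hg : g.1 • refU = refU ∧ g.1 • mclVec = mclVec := g.2
  have h1 := co0_dot g.1 refU (vecPt i)
  have h2 := co0_dot g.1 mclVec (vecPt i)
  rw [hg.1] at h1
  rw [hg.2] at h2
  have hm : ((g.1 • vecPt i : ↥leechLattice) : Zv) ∈ mcl275 :=
    ⟨⟨(g.1 • vecPt i).2, (g.1.2.2 _).trans (vec_mem i).1.2.1, h1.trans (vec_mem i).1.2.2⟩,
      h2.trans (vec_mem i).2⟩
  obtain ⟨j, hj, e⟩ := List.getElem_of_mem (mcl275_iff.1 hm)
  refine ⟨⟨j, mclList_len ▸ hj⟩, Subtype.ext ?_⟩
  show _ = vecOf (vecL j)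
  rw [vecL, vecLits_eq, List.getD_eq_getElem _ _ hj, e, vecOf_rowOf]

/-- The image of a point. -/
noncomputable def actPt (g : MG) (i : Fin 275) : Fin 275 := (image_exists g i).choose

theorem actPt_spec (g : MG) (i : Fin 275) : g.1 • vecPt i = vecPt (actPt g i) := (image_exists g i).choose_spec

theorem actPt_mul (g h : MG) (i : Fin 275) : actPt (g * h) i = actPt g (actPt h i) := vecPt_injective (by
  rw [← actPt_spec, ← actPt_spec, ← actPt_spec, Subgroup.coe_mul, mul_smul])

theorem actPt_one (i : Fin 275) : actPt 1 i = i := vecPt_injective (by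
  rw [← actPt_spec, Subgroup.coe_one, one_smul])

/-- The permutation representation. -/
noncomputable def perm275 : MG →* Equiv.Perm (Fin 275) where
  toFun g :=
    { toFun := actPt g
      invFun := actPt g⁻¹
      left_inv := fun i => by rw [← actPt_mul, inv_mul_cancel, actPt_one]
      right_inv := fun i => by rw [← actPt_mul, mul_inv_cancel, actPt_one] }
  map_one' := Equiv.ext actPt_one
  map_mul' g h := Equiv.ext (actPt_mul g h)

theorem card_MG : Nat.card MG = 898128000 := simple_mcl_ref.1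

instance finite_MG : Finite MG := Nat.finite_of_card_ne_zero (by rw [card_MG]; norm_num)

theorem rep_of_image {g : MG} {p : ℕ} (h : ∀ i : Fin 275, ∃ j : Fin 275, (j : ℕ) = PermNine.pg p i ∧
    g.1 • vecPt i = vecPt j) : PermNine.Rep perm275 g p := fun i => by
  obtain ⟨j, hj, e⟩ := h i
  rw [← hj]
  exact congrArg Fin.val (vecPt_injective ((actPt_spec g i).symm.trans e))

/-- The conjugated monomial element on one vector. -/
def monoCheck (i : ℕ) : Bool :=
  Nat.blt (PermNine.pg (basePerms.getD 0 0) i) 275 &&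
    (rowOf (wordApp (mclMono.getD 0 []) (wordApp mclWord (vecOf (vecL i)))) ==
      rowOf (wordApp mclWord (vecOf (vecL (PermNine.pg (basePerms.getD 0 0) i)))))

theorem mono_ok0 : (List.range' 0 25).all monoCheck = true := by decide +kernel

theorem mono_ok1 : (List.range' 25 25).all monoCheck = true := by decide +kernel

theorem mono_ok2 : (List.range' 50 25).all monoCheck = true := by decide +kernel

theorem mono_ok3 : (List.range' 75 25).all monoCheck = true := by decide +kernel

theorem mono_ok4 : (List.range' 100 25).all monoCheck = true := by decide +kernel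

theorem mono_ok5 : (List.range' 125 25).all monoCheck = true := by decide +kernel

theorem mono_ok6 : (List.range' 150 25).all monoCheck = true := by decide +kernel

theorem mono_ok7 : (List.range' 175 25).all monoCheck = true := by decide +kernel

theorem mono_ok8 : (List.range' 200 25).all monoCheck = true := by decide +kernel

theorem mono_ok9 : (List.range' 225 25).all monoCheck = true := by decide +kernel

theorem mono_ok10 : (List.range' 250 25).all monoCheck = true := by decide +kernel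

theorem mono_ok : (List.range 275).all monoCheck = true := by
  rw [List.all_eq_true]
  intro i hi
  have hi' : i < 275 := List.mem_range.1 hi
  have key : ∀ b, (List.range' b 25).all monoCheck = true → b ≤ i → i < b + 25 → monoCheck i = true := fun b h h1 h2 =>
    List.all_eq_true.1 h i (List.mem_range'_1.2 ⟨h1, h2⟩)
  have : i / 25 < 11 := by omega
  rcases (by omega : i < 25 ∨ (25 ≤ i ∧ i < 50) ∨ (50 ≤ i ∧ i < 75) ∨ (75 ≤ i ∧ i < 100) ∨ (100 ≤ i ∧ i < 125) ∨
      (125 ≤ i ∧ i < 150) ∨ (150 ≤ i ∧ i < 175) ∨ (175 ≤ i ∧ i < 200) ∨ (200 ≤ i ∧ i < 225) ∨ (225 ≤ i ∧ i < 250) ∨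
      (250 ≤ i ∧ i < 275)) with h | h | h | h | h | h | h | h | h | h | h
  exacts [key 0 mono_ok0 (Nat.zero_le i) h, key 25 mono_ok1 h.1 h.2, key 50 mono_ok2 h.1 h.2, key 75 mono_ok3 h.1 h.2, key 100 mono_ok4 h.1 h.2, key 125 mono_ok5 h.1 h.2, key 150 mono_ok6 h.1 h.2, key 175 mono_ok7 h.1 h.2, key 200 mono_ok8 h.1 h.2, key 225 mono_ok9 h.1 h.2, key 250 mono_ok10 h.1 h.2]

theorem exists_mono_gen : ∃ g : MG, PermNine.Rep perm275 g (basePerms.getD 0 0) := by
  obtain ⟨mok, fok, fu, fX, -, ffix, -, -, -, -⟩ := mcl_step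
  rw [List.all_eq_true] at fok mok
  obtain ⟨x, hxi⟩ := exists_xi
  have hfr : ∀ i, i < 3 → mclFrame.getD i [] ∈ mclFrame := fun i hi => by
    rw [List.getD_eq_getElem _ _ (show i < mclFrame.length from hi)]; exact List.getElem_mem _
  have hmn : mclMono.getD 0 [] ∈ mclMono := by
    rw [List.getD_eq_getElem _ _ (show 0 < mclMono.length by decide)]; exact List.getElem_mem _
  obtain ⟨k, -, hk⟩ := word_elem ⊤ (fun _ _ => Subgroup.mem_top _) (Subgroup.mem_top x) hxi mclWord
    (trace_sound _ _ (fok _ (hfr 0 (by norm_num)))).1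
  obtain ⟨m, -, hm⟩ := word_elem ⊤ (fun _ _ => Subgroup.mem_top _) (Subgroup.mem_top x) hxi _ (mok _ hmn)
  have key : ∀ a b : ↥leechLattice,
      wordApp (mclMono.getD 0 []) (wordApp mclWord (a : Zv)) = wordApp mclWord (b : Zv) → (k⁻¹ * m * k) • a = b := by
    intro a b h
    rw [mul_smul, mul_smul, inv_smul_eq_iff]
    refine Subtype.ext ?_
    rw [hm, hk, hk]
    exact h
  have frame : ∀ (i : ℕ) (a : ↥leechLattice), i < 3 → (a : Zv) = vecOf ((mclFrame.getD i []).getLastD []) →
      (k⁻¹ * m * k) • a = a := by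
    intro i a hi ha
    refine key a a ?_
    rw [ha, (trace_sound _ _ (fok _ (hfr i hi))).2]
    exact funext (ffix 0 (by norm_num) i (by simpa using hi))
  have g1 : (k⁻¹ * m * k) • refU = refU := frame 0 refU (by norm_num) (funext fun p => (fu p).symm)
  have g2 : (k⁻¹ * m * k) • mclVec = mclVec := frame 1 mclVec (by norm_num) (funext fun p => (fX p).symm)
  refine ⟨⟨k⁻¹ * m * k, g1, g2⟩, rep_of_image fun i => ?_⟩
  have hc := List.all_eq_true.1 mono_ok i (List.mem_range.2 i.2)
  simp only [monoCheck, Bool.and_eq_true, Nat.blt_eq, beq_iff_eq] at hc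
  refine ⟨⟨_, hc.1⟩, rfl, key _ _ ?_⟩
  show wordApp _ (wordApp _ (vecOf (vecL i))) = _
  exact (vecOf_rowOf _).symm.trans ((congrArg vecOf hc.2).trans (vecOf_rowOf _))

/-- A permutation of the code points with its action on the vectors. -/
def sigmaCheck (l : List ℕ) (p : ℕ) : Bool :=
  (codeBasis.all fun g => Nat.blt g (2 ^ 24) && codeMasks.elem (pmask l g)) &&
    ((Nat.beq (l.getD 23 0) 23 && Nat.beq (l.getD 0 0) 0) &&
      ((List.range 275).all fun i => Nat.blt (PermNine.pg p i) 275 &&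
        (List.range 24).all fun k => (vecL (PermNine.pg p i)).getD (l.getD k 0) 0 == (vecL i).getD k 0))

theorem sigma_ok : sigmaCheck sigma1 (basePerms.getD 1 0) = true ∧ sigmaCheck sigma2 (basePerms.getD 2 0) = true := by
  constructor <;> decide +kernel

theorem sigma_bij : Function.Bijective (fun p : GolayPt => pt (sigma1.getD (idx p) 0)) ∧
    Function.Bijective (fun p : GolayPt => pt (sigma2.getD (idx p) 0)) ∧
    (∀ i, i < 24 → sigma1.getD i 0 < 24 ∧ sigma2.getD i 0 < 24) := by
  refine ⟨?_, ?_, ?_⟩ <;> decide +kernel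

theorem exists_sigma_gen {l : List ℕ} {p : ℕ} (h : sigmaCheck l p = true)
    (hb : Function.Bijective (fun q : GolayPt => pt (l.getD (idx q) 0))) (hl : ∀ i, i < 24 → l.getD i 0 < 24) :
    ∃ g : MG, PermNine.Rep perm275 g p := by
  simp only [sigmaCheck, Bool.and_eq_true, List.all_eq_true, Nat.blt_eq, Nat.beq_eq, List.mem_range,
    beq_iff_eq, List.elem_iff] at h
  obtain ⟨hcode, ⟨h23, h0⟩, hperm⟩ := h
  obtain ⟨σ, hσ⟩ : ∃ σ : Equiv.Perm GolayPt, ∀ q, σ q = pt (l.getD (idx q) 0) := ⟨Equiv.ofBijective _ hb, fun _ => rfl⟩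
  have hrep : Spor.Rep σ l := fun q => by rw [hσ q, idx_pt _ (hl _ (idx_lt q))]
  have hM : σ ∈ M24 := mem_M24.2 fun g hg => by
    rw [hrep.mask_smul, mask_ofMask (hcode g hg).1]
    exact (hcode g hg).2
  have hn : σ none = none := by rw [hσ, show idx none = 23 from rfl, h23]; rfl
  have hp0 : σ (pt 0) = pt 0 := by rw [hσ, idx_pt 0 (by norm_num), h0]
  obtain ⟨g, hg⟩ := exists_prm hM
  have i1 : ∀ q, σ q = none ↔ q = none := fun q => by conv_lhs => rw [← hn]; rw [σ.injective.eq_iff]
  have i2 : ∀ q, σ q = pt 0 ↔ q = pt 0 := fun q => by conv_lhs => rw [← hp0]; rw [σ.injective.eq_iff]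
  have g1 : g • refU = refU := Subtype.ext (by
    rw [hg]; show prm σ uRef = uRef
    rw [uRef, prm_setVec, Finset.smul_finset_singleton]
    show setVec 1 5 {σ none} = _
    rw [hn])
  have g2 : g • mclVec = mclVec := Subtype.ext (by
    rw [hg]; show prm σ (fourVec 1) = fourVec 1
    funext q
    obtain ⟨r, rfl⟩ := σ.surjective q
    simp [prm, fourVec, i1, i2])
  refine ⟨⟨g, g1, g2⟩, rep_of_image fun i => ⟨⟨_, (hperm i i.2).1⟩, rfl, Subtype.ext ?_⟩⟩
  rw [hg]
  funext q
  obtain ⟨r, rfl⟩ := σ.surjective q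
  show prm σ (vecOf (vecL i)) (σ r) = vecOf (vecL (PermNine.pg p i)) (σ r)
  rw [prm, Equiv.symm_apply_apply]
  show (vecL i).getD (idx r) 0 = (vecL (PermNine.pg p i)).getD (idx (σ r)) 0
  rw [← hrep r, (hperm i i.2).2 (idx r) (idx_lt r)]

/-- The three basic elements. -/
theorem exists_base : ∃ γ : List MG, γ.length = 3 ∧
    ∀ j < 3, PermNine.Rep perm275 (γ.getD j 1) (basePerms.getD j 0) := by
  obtain ⟨g, hg⟩ := exists_mono_gen
  obtain ⟨b1, b2, hl⟩ := sigma_bij
  obtain ⟨s, hs⟩ := exists_sigma_gen sigma_ok.1 b1 fun i hi => (hl i hi).1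
  obtain ⟨t, ht⟩ := exists_sigma_gen sigma_ok.2 b2 fun i hi => (hl i hi).2
  refine ⟨[g, s, t], rfl, fun j hj => ?_⟩
  interval_cases j
  exacts [hg, hs, ht]

theorem basePerm_moves : (List.range 275).all (fun k => Nat.beq (PermNine.pg (basePerms.getD 1 0) k) k) = false := by
  decide +kernel

theorem perm275_injective : Function.Injective perm275 := by
  haveI : IsSimpleGroup MG := simple_mcl_ref.2
  rw [← MonoidHom.ker_eq_bot_iff]
  refine (perm275.normal_ker.eq_bot_or_eq_top).resolve_right fun htop => ?_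
  obtain ⟨γ, -, hγ⟩ := exists_base
  refine Bool.eq_false_iff.1 basePerm_moves (List.all_eq_true.2 fun k hk => ?_)
  rw [Nat.beq_eq]
  have h := hγ 1 (by norm_num) ⟨k, List.mem_range.1 hk⟩
  rw [show perm275 (γ.getD 1 1) = 1 from MonoidHom.mem_ker.1 (htop ▸ Subgroup.mem_top _)] at h
  exact h.symm

/-- The group of the definitions. -/
theorem mcl_iso : Nonempty (↥Cfsg.Spor.McL ≃* MG) := by
  have hp : pt 0 = some 0 := by decide +kernel
  have hU : (Cfsg.Spor.leechU : ↥leechLattice) = mclVec := Subtype.ext (by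
    show Cfsg.Spor.vecU = fourVec 1
    funext q
    simp only [Cfsg.Spor.vecU, fourVec, hp]
    by_cases h : q = none <;> simp [h])
  have hV : (Cfsg.Spor.leechV : ↥leechLattice) = -refU := Subtype.ext (by
    show Cfsg.Spor.vecV = -uRef
    funext q
    simp only [Cfsg.Spor.vecV, Pi.neg_apply, uRef, setVec, Finset.mem_singleton]
    split_ifs <;> rfl)
  have key : ∀ f : ↥Co0, ((f : Equiv.Perm ↥leechLattice) • (Cfsg.Spor.leechV : ↥leechLattice) = Cfsg.Spor.leechV ∧
      (f : Equiv.Perm ↥leechLattice) • (Cfsg.Spor.leechU : ↥leechLattice) = Cfsg.Spor.leechU) ↔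
      f ∈ pairStab mclVec := by
    intro f
    rw [hU, hV]
    show f • (-refU) = -refU ∧ f • mclVec = mclVec ↔ f • refU = refU ∧ f • mclVec = mclVec
    rw [co0_neg, neg_inj]
  refine ⟨{ toFun := fun g => ⟨⟨g.1, g.2.1.1⟩, (key ⟨g.1, g.2.1.1⟩).1 ⟨g.2.1.2, g.2.2⟩⟩
            invFun := fun f => ⟨(f.1 : Equiv.Perm ↥leechLattice), ⟨f.1.2, ((key f.1).2 f.2).1⟩, ((key f.1).2 f.2).2⟩
            left_inv := fun _ => rfl
            right_inv := fun _ => rfl
            map_mul' := fun _ _ => rfl }⟩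

end Cfsg.Agent.Lie.McLaughlinOut
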