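import Mathlib
import Cfsg.Agent.Lib.Lie.McLaughlinOut.Defs

/-!
Searches along the chains for the outer automorphism group of the McLaughlin group.
-/

set_option autoImplicit false
set_option maxRecDepth 100000
set_option maxHeartbeats 0
set_option Elab.async false

namespace Cfsg.Agent.Lie.McLaughlinOut

open Cfsg.Agent.Lie PermNine

/-- The fourth power of the first generator. -/
def permX4 : ℕ := pmul 275 (pmul 275 permX permX) (pmul 275 permX permX)

theorem norm_ok : srch permX permX4 leafNorm chainX [] [] = true := by decide +kernel

theorem outer_ok : srch permX permX leafOuter chainX [] [] = true := by decide +kernel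

theorem cand_ok : srch permN permN leafCand chainN [] [] = true := by decide +kernel

end Cfsg.Agent.Lie.McLaughlinOut
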