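import Mathlib
import Cfsg.Prelude.Def_KGroupFacts
import Cfsg.Agent.Lib.Lie.McLaughlinOut.Points
import Cfsg.Agent.Lib.Lie.McLaughlinOut.Checks
import Cfsg.Agent.Lib.Lie.McLaughlinOut.SearchChecks

/-!
The outer automorphism group of the McLaughlin group has order two: an automorphism can be moved to fix an element of
order eleven and an element normalising it, and then only two images of a centralising second generator satisfy the
relations.
-/

set_option autoImplicit false
set_option maxRecDepth 100000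
set_option linter.style.haveILetI false

namespace Cfsg.Agent.Lie.McLaughlinOut

open Cfsg Cfsg.Agent.Lie PermNine

attribute [local irreducible] pg slpP srch chainOK

theorem prog_facts : (CentralTable.slpOrdered 3 upOps = true ∧ (progLit 0 = permX ∧ progLit 1 = permY)) ∧
    ∀ j < 4, upRoots.getD j 0 < 3 + upOps.length := by
  have h := prog_ok
  simp only [progCheck, Bool.and_eq_true, List.all_eq_true, List.mem_range, Nat.blt_eq, Nat.beq_eq] at h
  exact h

theorem point_facts (k : Fin 275) :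
    ((∀ j < 4, pg (upPerm j) k = pg (upLit j) k) ∧
      ((pg permXi k < 275 ∧ pg permX (pg permXi k) = k) ∧
        (xPow 11 k = k ∧ pg permN (pg permX k) = xPow 4 (pg permN k)))) ∧
    ((pg permN (pg permY k) = pg permY (pg permN k) ∧
      ∀ r ∈ pairRels, evW (pg permX) (pg permY) (List.replicate r.2 r.1).flatten k = k) ∧
    (((pg outSigma k < 275 ∧ pg outSigmaInv k < 275) ∧
        (pg outSigma (pg outSigmaInv k) = k ∧ pg outSigmaInv (pg outSigma k) = k)) ∧
      (pg outSigma (pg permX k) = pg permX (pg outSigma k) ∧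
        pg outSigma (pg permY k) = pg permZ (pg outSigma k)))) := by
  have h := List.all_eq_true.1 point_ok k (List.mem_range.2 k.2)
  simp only [pointCheck, Bool.and_eq_true, List.all_eq_true, List.mem_range, Nat.blt_eq, Nat.beq_eq] at h
  exact h

/-- The three basic elements. -/
noncomputable def base : List MG := exists_base.choose

theorem base_spec : base.length = 3 ∧ ∀ j < 3, Rep perm275 (base.getD j 1) (basePerms.getD j 0) :=
  exists_base.choose_spec

/-- One of the four elements. -/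
noncomputable def el (j : ℕ) : MG := (CentralTable.slpElt base upOps).getD (upRoots.getD j 0) 1

theorem rep_el {j : ℕ} (hj : j < 4) : Rep perm275 (el j) (upLit j) := fun k => by
  rw [← (point_facts k).1.1 j hj]
  refine slp_rep upOps base basePerms ?_ (fun i hi => base_spec.2 i (base_spec.1 ▸ hi)) ?_ _ ?_ k
  · rw [base_spec.1]; rfl
  · rw [base_spec.1]; exact CentralTable.slpOrdered_spec _ _ prog_facts.1.1
  · rw [base_spec.1]; exact prog_facts.2 j hj

/-- The element of order eleven. -/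
noncomputable def gx : MG := el 0
/-- The element normalising it. -/
noncomputable def gn : MG := el 1
/-- The second generator. -/
noncomputable def gy : MG := el 2
/-- The other second generator. -/
noncomputable def gz : MG := el 3

theorem rep_x : Rep perm275 gx permX := rep_el (j := 0) (by norm_num)
theorem rep_n : Rep perm275 gn permN := rep_el (j := 1) (by norm_num)
theorem rep_y : Rep perm275 gy permY := rep_el (j := 2) (by norm_num)
theorem rep_z : Rep perm275 gz permZ := rep_el (j := 3) (by norm_num)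

theorem perm_ext {g h : MG} (e : ∀ k : Fin 275, (perm275 g k : ℕ) = perm275 h k) : g = h :=
  perm275_injective (Equiv.ext fun k => Fin.ext (e k))

theorem one_apply (k : Fin 275) : (perm275 (1 : MG) k : ℕ) = k := by rw [map_one]; rfl

theorem mul_apply (g h : MG) (k : Fin 275) : perm275 (g * h) k = perm275 g (perm275 h k) := by
  rw [map_mul, Equiv.Perm.mul_apply]

theorem ev_apply {g h : MG} {f f' : ℕ → ℕ} (hg : ∀ k : Fin 275, (perm275 g k : ℕ) = f k)
    (hh : ∀ k : Fin 275, (perm275 h k : ℕ) = f' k) : ∀ (w : List Bool) (k : Fin 275),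
    (perm275 (CentralTable.ev (fun s => bif s then h else g) w) k : ℕ) = evW f f' w k
  | [], k => one_apply k
  | s :: w, k => by
    rw [CentralTable.ev_cons, mul_apply, evW, List.foldr_cons]
    cases s
    · exact (hg _).trans (congrArg f (ev_apply hg hh w k))
    · exact (hh _).trans (congrArg f' (ev_apply hg hh w k))

theorem xPow_apply (i : ℕ) (k : Fin 275) : (perm275 (gx ^ i) k : ℕ) = xPow i k := by
  have e : CentralTable.ev (fun s => bif s then gx else gx) (List.replicate i false) = gx ^ i := by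
    rw [CentralTable.ev, List.map_replicate, List.prod_replicate]
    rfl
  rw [← e, ev_apply rep_x rep_x]
  rfl

theorem x_eleven : gx ^ 11 = 1 := perm_ext fun k => by
  rw [xPow_apply, (point_facts k).1.2.2.1, one_apply]

theorem x_order : orderOf gx = 11 := by
  haveI : Fact (Nat.Prime 11) := ⟨by norm_num⟩
  refine orderOf_eq_prime x_eleven fun e => ?_
  have h : (List.range 275).all (fun k => Nat.beq (pg permX k) k) = true := by
    rw [List.all_eq_true]
    intro k hk
    rw [Nat.beq_eq]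
    have h := rep_x ⟨k, List.mem_range.1 hk⟩
    rw [e, one_apply] at h
    exact h.symm
  exact absurd h (by unfold permX; decide +kernel)

theorem rep_xi : Rep perm275 gx⁻¹ permXi := fun k => by
  have h := (point_facts k).1.2.1
  have e : perm275 gx ⟨pg permXi k, h.1⟩ = k := Fin.ext ((rep_x _).trans h.2)
  have e2 : perm275 gx⁻¹ k = ⟨pg permXi k, h.1⟩ := by
    rw [map_inv]
    exact Equiv.Perm.inv_eq_iff_eq.2 e.symm
  rw [e2]

theorem norm_x : gn * gx = gx ^ 4 * gn := perm_ext fun k => by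
  rw [mul_apply, mul_apply, rep_n, rep_x, xPow_apply, rep_n]
  exact (point_facts k).1.2.2.2

theorem norm_pow (m i : ℕ) : gn ^ m * gx ^ i * (gn ^ m)⁻¹ = gx ^ (i * 4 ^ m) := by
  induction m generalizing i with
  | zero => simp
  | succ m ih =>
    rw [pow_succ, mul_inv_rev, show gn ^ m * gn * gx ^ i * (gn⁻¹ * (gn ^ m)⁻¹) =
      gn ^ m * (gn * gx ^ i * gn⁻¹) * (gn ^ m)⁻¹ by group, ← conj_pow, mul_inv_eq_iff_eq_mul.2 norm_x, ← pow_mul, ih]
    congr 1
    ring

theorem n_comm_y : gn * gy = gy * gn := perm_ext fun k => by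
  rw [mul_apply, mul_apply, rep_n, rep_y, rep_y, rep_n]
  exact (point_facts k).2.1.1

/-! ### the chains -/

theorem step_all (i : ℕ) (hi : i < chainOps.length) : stepOK i = true := by
  have hl : chainOps.length = 1202 := by decide +kernel
  have key : ∀ b c, (List.range' b c).all stepOK = true → b ≤ i → i < b + c → stepOK i = true := fun b c h h1 h2 =>
    List.all_eq_true.1 h i (List.mem_range'_1.2 ⟨h1, h2⟩)
  rcases (by omega : i < 301 ∨ (301 ≤ i ∧ i < 602) ∨ (602 ≤ i ∧ i < 903) ∨ (903 ≤ i ∧ i < 903 + 299)) with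
    h | h | h | h
  exacts [key 0 301 step_ok0 (Nat.zero_le i) (by omega), key 301 301 step_ok1 h.1 h.2, key 602 301 step_ok2 h.1 h.2,
    key 903 299 step_ok3 h.1 h.2]

/-- The subgroup generated by the two generators. -/
noncomputable def genXY : Subgroup MG := Subgroup.closure {gx, gy}

theorem prog_mem : ∀ i < 2 + chainOps.length, ∃ u ∈ (genXY : Set MG), Rep perm275 u (progLit i) := by
  intro i
  induction i using Nat.strong_induction_on with
  | _ i ih =>
    intro hi
    match i, ih, hi with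
    | 0, _, _ => exact ⟨gx, Subgroup.subset_closure (Set.mem_insert _ _), by rw [prog_facts.1.2.1]; exact rep_x⟩
    | 1, _, _ =>
      exact ⟨gy, Subgroup.subset_closure (Set.mem_insert_of_mem _ rfl), by rw [prog_facts.1.2.2]; exact rep_y⟩
    | j + 2, ih, hi =>
      have h := step_all j (by omega)
      simp only [stepOK, Bool.and_eq_true, Nat.blt_eq, List.all_eq_true, List.mem_range, Nat.beq_eq] at h
      obtain ⟨⟨ha, hb⟩, he⟩ := h
      obtain ⟨u, hu, ru⟩ := ih _ ha (ha.trans hi)
      obtain ⟨v, hv, rv⟩ := ih _ hb (hb.trans hi)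
      exact ⟨u * v, mul_mem hu hv, fun k => by rw [mul_apply, ru, rv]; exact (he k k.2).symm⟩

theorem reps_of_roots {L : List (ℕ × List ℕ)} {R : List (List ℕ)} (h : rootsOK L R = true) :
    Reps (φ := perm275) (genXY : Set MG) L := by
  simp only [rootsOK, Bool.and_eq_true, List.all_eq_true, Nat.beq_eq, Nat.blt_eq, decide_eq_true_eq] at h
  obtain ⟨hlen, hall⟩ := h
  intro l hl
  obtain ⟨i, hi, rfl⟩ := List.getElem_of_mem hl
  have hm : (L[i], R[i]'(hlen ▸ hi)) ∈ L.zip R :=
    List.mem_iff_getElem.2 ⟨i, by simp [hlen, hi], by simp⟩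
  obtain ⟨⟨hb, hmap⟩, hroots⟩ := hall _ hm
  refine ⟨hb, fun p hp => ?_⟩
  rw [← hmap, List.mem_map] at hp
  obtain ⟨r, hr, rfl⟩ := hp
  exact prog_mem r (hroots r hr)

theorem gen_top : genXY = ⊤ := by
  refine top_le_iff.1 fun g _ => ?_
  exact chain_mem perm275_injective chainX_ok (reps_of_roots rootsX_ok) (by rw [sizes_ok.1, card_MG]) g

theorem search_x {sg : ℕ} {leaf : List ℕ → Bool} (hs : srch permX sg leaf chainX [] [] = true) {g c : MG}
    (hc : Rep perm275 c sg) (e : g * gx = c * g) :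
    ∃ us, leaf us = true ∧ ∀ k : Fin 275, (perm275 g k : ℕ) = imgOf us k :=
  srch_sound chainX_ok (reps_of_roots rootsX_ok) (by rw [sizes_ok.1, card_MG]) hs rep_x hc e

theorem search_n {g : MG} (e : g * gn = gn * g) :
    ∃ us, leafCand us = true ∧ ∀ k : Fin 275, (perm275 g k : ℕ) = imgOf us k :=
  srch_sound chainN_ok (reps_of_roots rootsN_ok) (by rw [sizes_ok.2, card_MG]) cand_ok rep_n rep_n e

theorem norm_cases {g : MG} (e : g * gx = gx ^ 4 * g) : ∃ i, g = gx ^ i * gn := by
  have hc : Rep perm275 (gx ^ 4) permX4 := by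
    rw [show gx ^ 4 = gx * gx * (gx * gx) by simp only [pow_succ, pow_zero, one_mul, mul_assoc]]
    exact (rep_x.mul rep_x).mul (rep_x.mul rep_x)
  obtain ⟨us, hl, he⟩ := search_x norm_ok hc e
  simp only [leafNorm, List.any_eq_true, List.all_eq_true, List.mem_range, Nat.beq_eq] at hl
  obtain ⟨i, -, hi⟩ := hl
  refine ⟨i, perm_ext fun k => ?_⟩
  rw [he, hi k k.2, mul_apply, xPow_apply, rep_n]

theorem not_conj {g : MG} (e : g * gx = gx * g) : g * gy ≠ gz * g := by
  intro e'
  obtain ⟨us, hl, he⟩ := search_x outer_ok rep_x e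
  simp only [leafOuter, List.any_eq_true, List.mem_range, Bool.not_eq_true', ← Bool.not_eq_true, Nat.beq_eq] at hl
  obtain ⟨k, hk, hne⟩ := hl
  refine hne ?_
  have h := congrArg (fun a : MG => (perm275 a ⟨k, hk⟩ : ℕ)) e'
  simp only [mul_apply] at h
  rw [he, rep_y, rep_z, he] at h
  exact h

/-! ### automorphisms -/

theorem rels_hold {r : List Bool × ℕ} (hr : r ∈ pairRels) :
    CentralTable.ev (fun s => bif s then gy else gx) (List.replicate r.2 r.1).flatten = 1 :=
  perm_ext fun k => by rw [ev_apply rep_x rep_y, (point_facts k).2.1.2 r hr, one_apply]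

theorem cand_cases (α : MulAut MG) (hn : α gn = gn) :
    (α gx = gx → α gy = gy ∨ α gy = gz) ∧ α gx ≠ gx⁻¹ := by
  obtain ⟨us, hl, he⟩ := search_n (g := α gy) (by rw [← hn, ← map_mul, ← map_mul, n_comm_y])
  simp only [leafCand, Bool.and_eq_true, Bool.or_eq_true, List.all_eq_true, List.mem_range, Nat.beq_eq] at hl
  have fail : ∀ (z : MG) (p : ℕ), Rep perm275 z p → α gx = z → relFails p us = true → False := by
    intro z p hz e hf
    simp only [relFails, List.any_eq_true, List.mem_range, Bool.not_eq_true', ← Bool.not_eq_true, Nat.beq_eq] at hf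
    obtain ⟨r, hr, k, hk, hne⟩ := hf
    refine hne ?_
    have e1 := congrArg α.toMonoidHom (rels_hold hr)
    rw [map_one, CentralTable.map_ev] at e1
    have e2 : (fun s => α.toMonoidHom (bif s then gy else gx)) = fun s => bif s then α gy else z := by
      funext s
      cases s
      exacts [e, rfl]
    rw [e2] at e1
    have h := ev_apply hz he (List.replicate r.2 r.1).flatten ⟨k, hk⟩
    rw [e1, one_apply] at h
    exact h.symm
  refine ⟨fun hx => ?_, fun hx => fail _ _ rep_xi hx hl.1⟩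
  rcases hl.2.resolve_left (fun hf => fail _ _ rep_x hx hf) with h | h
  · exact Or.inl (perm_ext fun k => by rw [he, h k k.2, rep_y])
  · exact Or.inr (perm_ext fun k => by rw [he, h k k.2, rep_z])

/-- Subgroups of order eleven are conjugate. -/
theorem conj_eleven {a : MG} (ha : orderOf a = 11) : ∃ (g : MG) (i : ℕ), i < 11 ∧ g * a * g⁻¹ = gx ^ i := by
  haveI : Fact (Nat.Prime 11) := ⟨by norm_num⟩
  have key : ∀ c : MG, orderOf c = 11 → ∃ S : Sylow 11 MG, (S : Subgroup MG) = Subgroup.zpowers c := by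
    intro c hc
    have hcard : Nat.card (Subgroup.zpowers c) = 11 ^ 1 := by rw [Nat.card_zpowers, hc, pow_one]
    obtain ⟨S, hS⟩ := (IsPGroup.of_card hcard).exists_le_sylow
    obtain ⟨m, hm⟩ := S.isPGroup'.exists_card_eq
    refine ⟨S, (Subgroup.eq_of_le_of_card_ge hS ?_).symm⟩
    rw [hcard, hm]
    refine Nat.pow_le_pow_right (by norm_num) ?_
    by_contra hgt
    exact absurd ((pow_dvd_pow 11 (by omega : 2 ≤ m)).trans (hm ▸ Subgroup.card_subgroup_dvd_card _))
      (by rw [card_MG]; norm_num)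
  obtain ⟨SA, hA⟩ := key a ha
  obtain ⟨SB, hB⟩ := key gx x_order
  obtain ⟨g, hg⟩ := MulAction.exists_smul_eq MG SA SB
  classical
  have hm : g * a * g⁻¹ ∈ Subgroup.zpowers gx := by
    rw [← hB, ← hg, Sylow.coe_subgroup_smul, Subgroup.mem_pointwise_smul_iff_inv_smul_mem, hA]
    show (MulAut.conj g)⁻¹ (g * a * g⁻¹) ∈ _
    rw [MulAut.conj_inv_apply, show g⁻¹ * (g * a * g⁻¹) * g = a by group]
    exact Subgroup.mem_zpowers a
  obtain ⟨i, hi, e⟩ := (mem_zpowers_iff_mem_range_orderOf.1 hm) |> Finset.mem_image.1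
  rw [x_order, Finset.mem_range] at hi
  exact ⟨g, i, hi, e.symm⟩

theorem pow_cases : ∀ i < 11, i ≠ 0 → ∃ m : Fin 5, i * 4 ^ (m : ℕ) % 11 = 1 ∨ i * 4 ^ (m : ℕ) % 11 = 10 := by
  decide

theorem aut_norm (α : MulAut MG) : ∃ g : MG, (MulAut.conj g * α) gn = gn ∧
    ((MulAut.conj g * α) gx = gx ∨ (MulAut.conj g * α) gx = gx⁻¹) := by
  obtain ⟨h, i, hi, e⟩ := conj_eleven (a := α gx) (by rw [MulEquiv.orderOf_eq, x_order])
  have hi0 : i ≠ 0 := by
    rintro rfl
    rw [pow_zero, conj_eq_one_iff] at e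
    have := x_order
    rw [← MulEquiv.orderOf_eq α, e, orderOf_one] at this
    omega
  obtain ⟨m, hm⟩ := pow_cases i hi hi0
  obtain ⟨β, hβ⟩ : ∃ β : MulAut MG, β = MulAut.conj (gn ^ (m : ℕ) * h) * α := ⟨_, rfl⟩
  have hb : β gx = gx ∨ β gx = gx⁻¹ := by
    have e' : β gx = gx ^ (i * 4 ^ (m : ℕ)) := by
      rw [hβ, MulAut.mul_apply, MulAut.conj_apply, show gn ^ (m : ℕ) * h * α gx * (gn ^ (m : ℕ) * h)⁻¹ =
        gn ^ (m : ℕ) * (h * α gx * h⁻¹) * (gn ^ (m : ℕ))⁻¹ by group, e, norm_pow]
    rw [e', pow_eq_pow_mod _ x_eleven]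
    rcases hm with hm | hm <;> rw [hm]
    · exact Or.inl (pow_one _)
    · refine Or.inr (eq_inv_of_mul_eq_one_left ?_)
      rw [← pow_succ]
      exact x_eleven
  have hnorm : β gn * gx = gx ^ 4 * β gn := by
    have e2 := congrArg β norm_x
    rw [map_mul, map_mul, map_pow] at e2
    rcases hb with hb | hb
    · rwa [hb] at e2
    · rw [hb] at e2
      have e3 : β gn * gx⁻¹ * (β gn)⁻¹ = gx⁻¹ ^ 4 := mul_inv_eq_iff_eq_mul.2 e2
      have e4 := congrArg (·⁻¹) e3
      simp only [mul_inv_rev, inv_inv, inv_pow] at e4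
      rw [← mul_assoc] at e4
      exact mul_inv_eq_iff_eq_mul.1 e4
  obtain ⟨j, hj⟩ := norm_cases hnorm
  refine ⟨gx ^ (4 * j) * (gn ^ (m : ℕ) * h), ?_⟩
  rw [map_mul, mul_assoc, ← hβ, MulAut.mul_apply, MulAut.mul_apply, MulAut.conj_apply, MulAut.conj_apply, hj]
  refine ⟨?_, ?_⟩
  · have hn : gn * gx ^ (4 * j) * gn⁻¹ = gx ^ (4 * j * 4) := by
      have := norm_pow 1 (4 * j)
      rwa [pow_one, pow_one] at this
    have hinv : gn * (gx ^ (4 * j))⁻¹ = (gx ^ (4 * j * 4))⁻¹ * gn := by
      rw [← hn]; group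
    rw [mul_assoc, mul_assoc, hinv, ← mul_assoc, ← mul_assoc, ← pow_add]
    rw [show 4 * j + j = 5 * j by ring, show 4 * j * 4 = 11 * j + 5 * j by ring, pow_add, pow_mul gx 11, x_eleven,
      one_pow, one_mul, mul_inv_cancel, one_mul]
  · rcases hb with hb | hb <;> rw [hb]
    · exact Or.inl (by group)
    · exact Or.inr (by group)

theorem aut_ext {α β : MulAut MG} (h1 : α gx = β gx) (h2 : α gy = β gy) : α = β := by
  have : α.toMonoidHom = β.toMonoidHom := MonoidHom.eq_of_eqOn_dense gen_top (by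
    rintro _ (rfl | rfl)
    exacts [h1, h2])
  exact MulEquiv.ext fun x => DFunLike.congr_fun this x

/-- The outer permutation. -/
def sigmaPerm : Equiv.Perm (Fin 275) where
  toFun k := ⟨pg outSigma k, (point_facts k).2.2.1.1.1⟩
  invFun k := ⟨pg outSigmaInv k, (point_facts k).2.2.1.1.2⟩
  left_inv k := Fin.ext (point_facts k).2.2.1.2.2
  right_inv k := Fin.ext (point_facts k).2.2.1.2.1

theorem sigma_conj : sigmaPerm * perm275 gx = perm275 gx * sigmaPerm ∧
    sigmaPerm * perm275 gy = perm275 gz * sigmaPerm := by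
  constructor <;> refine Equiv.ext fun k => Fin.ext ?_
  · show pg outSigma (perm275 gx k : ℕ) = (perm275 gx (sigmaPerm k) : ℕ)
    rw [rep_x, rep_x]
    exact (point_facts k).2.2.2.1
  · show pg outSigma (perm275 gy k : ℕ) = (perm275 gz (sigmaPerm k) : ℕ)
    rw [rep_y, rep_z]
    exact (point_facts k).2.2.2.2

theorem exists_outer : ∃ θ : MulAut MG, (θ gx = gx ∧ θ gy = gz) ∧ θ ∉ Cfsg.Inn MG := by
  obtain ⟨c, hcdef⟩ : ∃ c : MG →* Equiv.Perm (Fin 275), c = (MulAut.conj sigmaPerm).toMonoidHom.comp perm275 :=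
    ⟨_, rfl⟩
  have h1 : c gx = perm275 gx := by
    rw [hcdef]; show sigmaPerm * perm275 gx * sigmaPerm⁻¹ = _
    rw [sigma_conj.1, mul_inv_cancel_right]
  have h2 : c gy = perm275 gz := by
    rw [hcdef]; show sigmaPerm * perm275 gy * sigmaPerm⁻¹ = _
    rw [sigma_conj.2, mul_inv_cancel_right]
  have hc : ∀ x, c x ∈ perm275.range := by
    intro x
    have hx : x ∈ perm275.range.comap c := by
      refine (Subgroup.closure_le _).2 ?_ (gen_top.ge (Subgroup.mem_top x))
      rintro _ (rfl | rfl)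
      exacts [⟨_, h1.symm⟩, ⟨_, h2.symm⟩]
    exact hx
  let b : MG →* MG := (MonoidHom.ofInjective perm275_injective).symm.toMonoidHom.comp (c.codRestrict perm275.range hc)
  have hb : ∀ x, perm275 (b x) = c x := fun x =>
    congrArg Subtype.val ((MonoidHom.ofInjective perm275_injective).apply_symm_apply ⟨c x, hc x⟩)
  have hinj : Function.Injective b := fun x y e => by
    have h := congrArg perm275 e
    rw [hb, hb, hcdef] at h
    exact perm275_injective ((MulAut.conj sigmaPerm).injective h)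
  refine ⟨MulEquiv.ofBijective b (Finite.injective_iff_bijective.1 hinj),
    ⟨perm275_injective ((hb _).trans h1), perm275_injective ((hb _).trans h2)⟩, ?_⟩
  rintro ⟨g, hg⟩
  have hgx : ∀ z, g * z * g⁻¹ = b z := fun z => DFunLike.congr_fun hg z
  refine not_conj (g := g) ?_ ?_
  · rw [← mul_inv_eq_iff_eq_mul, hgx]
    exact perm275_injective ((hb _).trans h1)
  · rw [← mul_inv_eq_iff_eq_mul, hgx]
    exact perm275_injective ((hb _).trans h2)

theorem card_out_MG : Nat.card (Cfsg.Out MG) = 2 := by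
  obtain ⟨θ, ⟨hx, hy⟩, hne⟩ := exists_outer
  show Nat.card (MulAut MG ⧸ Cfsg.Inn MG) = 2
  rw [← Subgroup.index_eq_card, Subgroup.index_eq_two_iff]
  refine ⟨θ⁻¹, fun α => ?_⟩
  have hI : ∀ g : MG, MulAut.conj g ∈ Cfsg.Inn MG := fun g => ⟨g, rfl⟩
  obtain ⟨g, hn, hgx⟩ := aut_norm α
  obtain ⟨hc, hne'⟩ := cand_cases _ hn
  have hgx' := hgx.resolve_right hne'
  rcases hc hgx' with h | h
  · have hα : α ∈ Cfsg.Inn MG := by
      rw [eq_inv_of_mul_eq_one_right (aut_ext (β := 1) hgx' h)]
      exact inv_mem (hI g)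
    refine Or.inr ⟨hα, fun hm => hne ?_⟩
    exact inv_mem_iff.1 ((Subgroup.mul_mem_cancel_left _ hα).1 hm)
  · have hθ : MulAut.conj g * α = θ := aut_ext (hgx'.trans hx.symm) (h.trans hy.symm)
    have hα : α * θ⁻¹ = (MulAut.conj g)⁻¹ := by rw [← hθ]; group
    refine Or.inl ⟨hα ▸ inv_mem (hI g), fun hm => hne ?_⟩
    have := mul_mem (inv_mem (hα ▸ inv_mem (hI g) : α * θ⁻¹ ∈ Cfsg.Inn MG)) hm
    rwa [show (α * θ⁻¹)⁻¹ * α = θ by group] at this

/-- The outer automorphism group of the McLaughlin group has order two. -/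
theorem card_out : Nat.card (Cfsg.Out ↥Cfsg.Spor.McL) = 2 := by
  obtain ⟨e⟩ := mcl_iso
  rw [← card_out_MG]
  refine Nat.card_congr (QuotientGroup.congr _ _ (MulAut.congr e) ?_).toEquiv
  refine Subgroup.ext fun β => ⟨?_, ?_⟩
  · rintro ⟨_, ⟨g, rfl⟩, rfl⟩
    exact ⟨e g, MulEquiv.ext fun x => by simp [MulAut.congr]⟩
  · rintro ⟨g, rfl⟩
    exact ⟨_, ⟨e.symm g, rfl⟩, MulEquiv.ext fun x => by simp [MulAut.congr]⟩

end Cfsg.Agent.Lie.McLaughlinOut
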